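import Mathlib
import Groth.Agent.Lib.Helper5.BC.Defs

/-!
# `L(𝟙)^* ≅ id` and retractions (helper5)
-/
set_option autoImplicit false
set_option linter.unusedSectionVars false
set_option linter.unusedVariables false
set_option linter.style.haveILetI false
universe u
open CategoryTheory CategoryTheory.Limits AlgebraicGeometry
attribute [local instance] HasDerivedCategory.standard

namespace Groth.Agent.Lib.Helper5.FMId

open Groth.Agent.Lib.Helper5.BC Groth.Agent.Lib.Helper5.LpullLib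

/-- `(𝟙)^* ≅ id` on complexes -/
noncomputable def pullIdCx (X : Scheme.{u}) :
    (Scheme.Modules.pullback (𝟙 X)).mapHomologicalComplex (ComplexShape.up ℤ) ≅
      𝟭 (CochainComplex X.Modules ℤ) :=
  NatIso.mapHomologicalComplex (Scheme.Modules.pullbackId X) (ComplexShape.up ℤ) ≪≫
    Functor.mapHomologicalComplexIdIso X.Modules (ComplexShape.up ℤ)

/-- `(𝟙)^* ≅ id` on the homotopy category -/
noncomputable def pullIdK (X : Scheme.{u}) :
    (Scheme.Modules.pullback (𝟙 X)).mapHomotopyCategory (ComplexShape.up ℤ) ≅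
      𝟭 (HomotopyCategory X.Modules (ComplexShape.up ℤ)) :=
  Quotient.natIsoLift _
    ((Scheme.Modules.pullback (𝟙 X)).mapHomotopyCategoryFactors (ComplexShape.up ℤ) ≪≫
      Functor.isoWhiskerRight (pullIdCx X) (HomotopyCategory.quotient X.Modules (ComplexShape.up ℤ)) ≪≫
      Functor.leftUnitor _ ≪≫ (Functor.rightUnitor _).symm)

/-- **`L(𝟙)^* ≅ id`** -/
noncomputable def lpullId (X : Scheme.{u}) : DCoh.Lpull (𝟙 X) ≅ 𝟭 (DCoh.D X) := by
  let e : DerivedCategory.Qh ⋙ 𝟭 (DCoh.D X) ≅ DCoh.pullKh (𝟙 X) :=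
    Functor.rightUnitor _ ≪≫ (Functor.leftUnitor _).symm ≪≫
      Functor.isoWhiskerRight (pullIdK X).symm DerivedCategory.Qh
  haveI : (𝟭 (DCoh.D X)).IsLeftDerivedFunctor e.hom
      (HomotopyCategory.quasiIso X.Modules (ComplexShape.up ℤ)) :=
    Functor.isLeftDerivedFunctor_of_inverts _ _ e
  exact Functor.leftDerivedUnique (𝟭 (DCoh.D X)) (DCoh.Lpull (𝟙 X)) (lpullCounit (𝟙 X)) e.hom
    (HomotopyCategory.quasiIso X.Modules (ComplexShape.up ℤ))

/-- `Lf^* ≅ id` for `f = 𝟙` -/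
noncomputable def lpullIdOfEq {X : Scheme.{u}} (f : X ⟶ X) (h : f = 𝟙 X) :
    DCoh.Lpull f ≅ 𝟭 (DCoh.D X) :=
  lcongr h ≪≫ lpullId X

/-- a section `s` of `p` gives `Lp^* ⋙ Ls^* ≅ id` -/
noncomputable def lpullSection {X W : Scheme.{u}} (s : X ⟶ W) (p : W ⟶ X) (h : s ≫ p = 𝟙 X) :
    DCoh.Lpull p ⋙ DCoh.Lpull s ≅ 𝟭 (DCoh.D X) :=
  cL s p ≪≫ lpullIdOfEq (s ≫ p) h

/-- a section `s` of `p` gives `Rs_* ⋙ Rp_* ≅ id` -/
noncomputable def rpushSection {X W : Scheme.{u}} (s : X ⟶ W) (p : W ⟶ X) (h : s ≫ p = 𝟙 X) :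
    DCoh.Rpush s ⋙ DCoh.Rpush p ≅ 𝟭 (DCoh.D X) :=
  conjugateIsoEquiv ((adjL p).comp (adjL s)) Adjunction.id (lpullSection s p h).symm

end Groth.Agent.Lib.Helper5.FMId
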