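import Mathlib
import Groth.Agent.Lib.Helper5.ProjF.PiCx
import Groth.Agent.Lib.Helper5.ProjF.ClDer
import Groth.Agent.Lib.Helper5.ProjF2.Rho

/-!
# The projection formula map for a closed immersion is an isomorphism (helper5)
-/
set_option autoImplicit false
set_option linter.unusedSectionVars false
set_option linter.unusedVariables false
set_option linter.style.haveILetI false
universe u
open CategoryTheory CategoryTheory.Limits AlgebraicGeometry HomologicalComplex
attribute [local instance] HasDerivedCategory.standard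

namespace Groth.Agent.Lib.Helper5.FMId

open Groth.Agent.Lib.Helper5.ProjF Groth.Agent.Lib.Helper5.ProjF2
  Groth.Agent.Lib.Helper5.TotFun Groth.Agent.Lib.Helper5.TotMap

variable {X Y : Scheme.{u}} (f : X ⟶ Y) [IsClosedImmersion f]
  (I : CochainComplex X.Modules ℤ) (P : CochainComplex Y.Modules ℤ)

/-- `piCx` is inverse to `piCxIso` -/
theorem piCx_piCxIso_hom : piCx f I P ≫ (piCxIso f I P).hom = 𝟙 _ := by
  refine HomologicalComplex.hom_ext _ _ (fun n => ?_)
  apply mapBifunctor.hom_ext
  intro p q hpq
  have hpq' : p + q = n := hpq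
  have e1 : ιB DCoh.tensorBi (Scheme.Modules.pushforward f) (𝟭 Y.Modules) I P p q n hpq' ≫
      (piCx f I P).f n = piMap f (I.X p) (P.X q) ≫
        (Scheme.Modules.pushforward f).map (ιA (TAf f) I P p q n hpq') :=
    ι_eMap (TAf f) DCoh.tensorBi (Scheme.Modules.pushforward f) (𝟭 Y.Modules)
      (Scheme.Modules.pushforward f) (piMap f) I P p q n hpq'
  have e2 : (Scheme.Modules.pushforward f).map (ιA (TAf f) I P p q n hpq') ≫
      (piCxIso f I P).hom.f n = (piIso f (I.X p) (P.X q)).hom ≫
        ιB DCoh.tensorBi (Scheme.Modules.pushforward f) (𝟭 Y.Modules) I P p q n hpq' :=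
    ι_eIso (TAf f) DCoh.tensorBi (Scheme.Modules.pushforward f) (𝟭 Y.Modules)
      (Scheme.Modules.pushforward f) (piIso f) I P p q n hpq'
  have e3 : piMap f (I.X p) (P.X q) ≫ (piIso f (I.X p) (P.X q)).hom = 𝟙 _ := by
    haveI := isIso_piMap f (I.X p) (P.X q)
    exact IsIso.hom_inv_id (piMap f (I.X p) (P.X q))
  show ιB DCoh.tensorBi (Scheme.Modules.pushforward f) (𝟭 Y.Modules) I P p q n hpq' ≫
      ((piCx f I P).f n ≫ (piCxIso f I P).hom.f n) =
    ιB DCoh.tensorBi (Scheme.Modules.pushforward f) (𝟭 Y.Modules) I P p q n hpq' ≫ 𝟙 _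
  refine (Category.assoc _ _ _).symm.trans ?_
  refine (congrArg (fun φ => φ ≫ (piCxIso f I P).hom.f n) e1).trans ?_
  refine (Category.assoc _ _ _).trans ?_
  refine (congrArg (fun φ => piMap f (I.X p) (P.X q) ≫ φ) e2).trans ?_
  refine (Category.assoc _ _ _).symm.trans ?_
  refine (congrArg (fun φ => φ ≫
    ιB DCoh.tensorBi (Scheme.Modules.pushforward f) (𝟭 Y.Modules) I P p q n hpq') e3).trans ?_
  exact (Category.id_comp _).trans (Category.comp_id _).symm

/-- **the projection formula map on complexes is an isomorphism for a closed immersion** -/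
theorem isIso_piCx : IsIso (piCx f I P) := by
  have h := piCx_piCxIso_hom f I P
  have h2 : piCx f I P = (piCxIso f I P).inv := by
    rw [← cancel_mono (piCxIso f I P).hom, h, Iso.inv_hom_id]
  rw [h2]
  infer_instance

variable [DCoh.HasRpush f]

/-- the unit `Q (f_* J) ⟶ Rf_* (Q J)` is an isomorphism for a closed immersion -/
theorem isIso_uCx_of_isClosedImmersion (J : CochainComplex X.Modules ℤ) : IsIso (uCx f J) := by
  have hinv : (HomotopyCategory.quasiIso X.Modules (ComplexShape.up ℤ)).IsInvertedBy
      (DCoh.pushKh f) := by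
    intro K K' g hg
    have h1 : IsIso (DerivedCategory.Qh.map g) := Localization.inverts DerivedCategory.Qh _ g hg
    have h2 : IsIso ((DerivedCategory.Qh ⋙
        (Scheme.Modules.pushforward f).mapDerivedCategory).map g) := by
      dsimp
      infer_instance
    exact ((NatIso.isIso_map_iff
      ((Scheme.Modules.pushforward f).mapDerivedCategoryFactorsh) g)).1 h2
  haveI : IsIso ((DCoh.pushKh f).totalRightDerivedUnit DerivedCategory.Qh
      (HomotopyCategory.quasiIso X.Modules (ComplexShape.up ℤ))) :=
    Functor.isIso_of_isRightDerivedFunctor_of_inverts (DCoh.Rpush f) _ hinv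
  show IsIso (((DCoh.pushKh f).totalRightDerivedUnit DerivedCategory.Qh
    (HomotopyCategory.quasiIso X.Modules (ComplexShape.up ℤ))).app
      ((HomotopyCategory.quotient X.Modules (ComplexShape.up ℤ)).obj J))
  infer_instance

/-- `ρ` is an isomorphism for a closed immersion -/
theorem isIso_rho_of_isClosedImmersion : IsIso (rho f I P) := by
  haveI := isIso_piCx f I P
  haveI := isIso_uCx_of_isClosedImmersion f ((KF f I).obj P)
  unfold rho
  infer_instance

end Groth.Agent.Lib.Helper5.FMId
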