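import Mathlib
import Groth.Agent.Lib.Helper5.RHomQC.UnitTen
import Groth.Agent.Lib.Helper5.ProjF3.TauY
import Groth.Agent.Lib.Helper5.LTen.AssocD

/-!
# `- ⊗^L O_X[0] ≅ id`, naturally (helper5)
-/
set_option autoImplicit false
set_option linter.unusedSectionVars false
set_option linter.unusedVariables false
set_option linter.style.haveILetI false
universe u
open CategoryTheory CategoryTheory.Limits AlgebraicGeometry HomologicalComplex
attribute [local instance] HasDerivedCategory.standard

namespace Groth.Agent.Lib.Helper5.FMId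

open Groth.Agent.Lib.Helper5.RHomQC

section General

variable {A : Type*} [Category A] [Preadditive A] [HasZeroObject A]
  (T : A ⥤ A ⥤ A) [T.Additive] [∀ X : A, (T.obj X).Additive]
  [∀ (K₁ K₂ : CochainComplex A ℤ), CochainComplex.HasMapBifunctor K₁ K₂ T]
  (U : A) (e : T.obj U ≅ 𝟭 A)

/-- naturality of the unit isomorphism of complexes -/
lemma unitCxIso_hom_naturality {K K' : CochainComplex A ℤ} (g : K ⟶ K') :
    g ≫ (unitCxIso T U e K').hom =
      (unitCxIso T U e K).hom ≫ mapBifunctorMap (𝟙 (SU U)) g T (ComplexShape.up ℤ) := by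
  refine HomologicalComplex.hom_ext _ _ (fun n => ?_)
  show g.f n ≫ unitHomF T U e K' n =
    unitHomF T U e K n ≫ (mapBifunctorMap (𝟙 (SU U)) g T (ComplexShape.up ℤ)).f n
  dsimp only [unitHomF]
  have h1 := e.inv.naturality (g.f n)
  have h2 := (T.map (HomologicalComplex.singleObjXSelf (ComplexShape.up ℤ) 0 U).inv).naturality
    (g.f n)
  simp only [Functor.id_obj, Functor.id_map] at h1
  rw [Category.assoc, Category.assoc, ι_mapBifunctorMap, HomologicalComplex.id_f,
    CategoryTheory.Functor.map_id, NatTrans.id_app, Category.id_comp, reassoc_of% h1,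
    reassoc_of% h2]

end General

variable {X : Scheme.{u}}

/-- naturality of `F ≅ O[0] ⊗ F` -/
lemma tensorCxUnitIso_hom_naturality {F F' : CochainComplex X.Modules ℤ} (g : F ⟶ F') :
    g ≫ (tensorCxUnitIso F').hom =
      (tensorCxUnitIso F).hom ≫ (DCoh.tensorCx.obj (OCx X 0)).map g :=
  unitCxIso_hom_naturality (DCoh.tensorBi (X := X)) (Coh.structureModule X) (tensorBiUnitIso X) g

/-- `- ⊗ O[0] ≅ id` on complexes -/
noncomputable def rUnitCx (X : Scheme.{u}) :
    (DCoh.tensorCx (X := X)).flip.obj (OCx X 0) ≅ 𝟭 (CochainComplex X.Modules ℤ) :=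
  NatIso.ofComponents
    (fun N => Groth.Agent.Lib.Helper5.ProjF2.braidCx N (OCx X 0) ≪≫ (tensorCxUnitIso N).symm)
    (by
      intro N N' a
      have h1 := Groth.Agent.Lib.Helper5.ProjF3.braidCx_naturality₁ a (OCx X 0)
      have h2 := tensorCxUnitIso_hom_naturality a
      have h3 : (DCoh.tensorCx.obj (OCx X 0)).map a ≫ (tensorCxUnitIso N').inv =
          (tensorCxUnitIso N).inv ≫ a := by
        rw [Iso.comp_inv_eq, Category.assoc, h2, Iso.inv_hom_id_assoc]
      show (DCoh.tensorCx.map a).app (OCx X 0) ≫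
          ((Groth.Agent.Lib.Helper5.ProjF2.braidCx N' (OCx X 0)).hom ≫
            (tensorCxUnitIso N').inv) =
        ((Groth.Agent.Lib.Helper5.ProjF2.braidCx N (OCx X 0)).hom ≫
            (tensorCxUnitIso N).inv) ≫ a
      rw [← Category.assoc, h1, Category.assoc, h3, Category.assoc])

/-- **`- ⊗^L O_X[0] ≅ id`** -/
noncomputable def ltensorOIso (X : Scheme.{u}) [DCoh.HasLTensorCx (OCx X 0)] :
    DCoh.LTensorCx (OCx X 0) ≅ 𝟭 (DCoh.D X) := by
  let e : DerivedCategory.Q ⋙ 𝟭 (DCoh.D X) ≅ DCoh.tensorCxQ (OCx X 0) :=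
    Functor.rightUnitor _ ≪≫ (Functor.leftUnitor _).symm ≪≫
      Functor.isoWhiskerRight (rUnitCx X).symm DerivedCategory.Q
  haveI : (𝟭 (DCoh.D X)).IsLeftDerivedFunctor e.hom
      (HomologicalComplex.quasiIso X.Modules (ComplexShape.up ℤ)) :=
    Functor.isLeftDerivedFunctor_of_inverts _ _ e
  exact Functor.leftDerivedUnique (𝟭 (DCoh.D X)) (DCoh.LTensorCx (OCx X 0))
    (Groth.Agent.Lib.Helper5.AssocD.ε (OCx X 0)) e.hom
    (HomologicalComplex.quasiIso X.Modules (ComplexShape.up ℤ))

end Groth.Agent.Lib.Helper5.FMId
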