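import Mathlib
import Groth.Prelude.Def_DualFM
import Groth.Agent.Lib.Helper5.FMId.PiIso
import Groth.Agent.Lib.Helper5.FMId.UnitNat
import Groth.Agent.Lib.Helper5.FMId.LpullId
import Groth.Agent.Lib.Helper5.ProjF3.TauY
import Groth.Agent.Lib.Helper5.BC.LTenCongr

/-!
# The Fourier–Mukai functor of the structure sheaf of the diagonal is the identity (helper5)
-/
set_option autoImplicit false
set_option linter.unusedSectionVars false
set_option linter.unusedVariables false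
set_option linter.style.haveILetI false
universe u
open CategoryTheory CategoryTheory.Limits AlgebraicGeometry
attribute [local instance] HasDerivedCategory.standard

namespace Groth.Agent.Lib.Helper5.FMId

open Groth.Agent.Lib.Helper5.BC Groth.Agent.Lib.Helper5.LpullLib
  Groth.Agent.Lib.Helper5.ProjF Groth.Agent.Lib.Helper5.ProjF2 Groth.Agent.Lib.Helper5.ProjF3
  Groth.Agent.Lib.Helper5.DerQ Groth.Agent.Lib.Helper5.LTenCongr Groth.Agent.Lib.Helper5.RHomQC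

section Tau

variable {X Y : Scheme.{u}} (f : X ⟶ Y) [IsClosedImmersion f]
  (I : CochainComplex X.Modules ℤ) [DCoh.HasLTensorCx I] [DCoh.HasLTensorCx ((pushCx f).obj I)]

/-- **the projection formula for a closed immersion, as a natural isomorphism on all of
`D(O_Y)`** -/
theorem isIso_tauY_of_isClosedImmersion : IsIso (tauY f I) := by
  haveI : ∀ F : DCoh.D Y, IsIso ((tauY f I).app F) := by
    intro F
    obtain ⟨P, p, hP, hp⟩ := kflat_res (DerivedCategory.Q.objPreimage F)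
    haveI : IsIso (DerivedCategory.Q.map p) := (DerivedCategory.isIso_Q_map_iff_quasiIso _ p).2 hp
    let e : DerivedCategory.Q.obj P ≅ F :=
      asIso (DerivedCategory.Q.map p) ≪≫ DerivedCategory.Q.objObjPreimageIso F
    rw [← NatTrans.isIso_app_iff_of_iso (tauY f I) e]
    haveI h1 := isIso_β₂_app f I P hP
    haveI h2 : IsIso ((Groth.Agent.Lib.Helper5.AssocD.ε ((pushCx f).obj I)).app P) :=
      isIso_counit_app (Groth.Agent.Lib.Helper5.LTenAll.adaptedQ_tensorCxQ ((pushCx f).obj I))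
        (DCoh.LTensorCx ((pushCx f).obj I)) _ P hP
    haveI h3 := isIso_rho_of_isClosedImmersion f I P
    haveI h4 : IsIso ((rhoNat f I).app P) := by
      show IsIso (DerivedCategory.Q.map (braidCx P ((pushCx f).obj I)).hom ≫ rho f I P ≫
        (DCoh.Rpush f).map (DerivedCategory.Q.map
          (braidCx I ((Groth.Agent.Lib.Helper5.ProjF2.pullCx f).obj P)).hom))
      infer_instance
    have h := tauY_app f I P
    have h5 : (tauY f I).app (DerivedCategory.Q.obj P) =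
        ((Groth.Agent.Lib.Helper5.AssocD.ε ((pushCx f).obj I)).app P ≫ (rhoNat f I).app P) ≫
          inv ((β₂ f I).app P) := by
      rw [← h]
      simp
    rw [h5]
    infer_instance
  exact NatIso.isIso_of_isIso_app _

end Tau

section Main

variable {S X : Scheme.{u}} (a : X ⟶ S) [IsSeparated a]

/-- the complex `Δ_* O_X[0]` represents `FMK.diagO` -/
noncomputable def diagOIso :
    DerivedCategory.Q.obj ((pushCx (pullback.diagonal a)).obj (OCx X 0)) ≅ FMK.diagO a :=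
  DerivedCategory.Q.mapIso ((HomologicalComplex.singleMapHomologicalComplex
      (Scheme.Modules.pushforward (pullback.diagonal a)) (ComplexShape.up ℤ) 0).app
      (Coh.structureModule X)) ≪≫
    ((DerivedCategory.singleFunctorIsoCompQ (pullback a a).Modules 0).app
      ((Scheme.Modules.pushforward (pullback.diagonal a)).obj (Coh.structureModule X))).symm

/-- **the Fourier–Mukai functor with kernel `Δ_* O_X` is the identity** -/
theorem nonempty_fm_diag (K : CochainComplex (pullback a a).Modules ℤ)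
    (hK : Nonempty (DCoh.toD _ K ≅ FMK.diagO a)) [DCoh.HasLTensorCx K] :
    Nonempty (FMK.phi a a K ≅ 𝟭 (DCoh.D X)) := by
  obtain ⟨eK⟩ := hK
  let Δ := pullback.diagonal a
  let p₁ := pullback.fst a a
  let p₂ := pullback.snd a a
  haveI : DCoh.HasLTensorCx (OCx X 0) := Groth.Agent.Lib.Helper5.LTenAll.hasLTensorCx _
  haveI : DCoh.HasLTensorCx ((pushCx Δ).obj (OCx X 0)) :=
    Groth.Agent.Lib.Helper5.LTenAll.hasLTensorCx _
  obtain ⟨e1⟩ := nonempty_ltensor_iso_of_iso (K := K) (K' := (pushCx Δ).obj (OCx X 0))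
    (eK ≪≫ (diagOIso a).symm)
  haveI := isIso_tauY_of_isClosedImmersion Δ (OCx X 0)
  let e2 : DCoh.LTensorCx ((pushCx Δ).obj (OCx X 0)) ≅
      DCoh.Lpull Δ ⋙ DCoh.LTensorCx (OCx X 0) ⋙ DCoh.Rpush Δ := asIso (tauY Δ (OCx X 0))
  let e3 : DCoh.Lpull p₁ ⋙ DCoh.Lpull Δ ≅ 𝟭 (DCoh.D X) :=
    lpullSection Δ p₁ (pullback.diagonal_fst a)
  let e4 : DCoh.Rpush Δ ⋙ DCoh.Rpush p₂ ≅ 𝟭 (DCoh.D X) :=
    rpushSection Δ p₂ (pullback.diagonal_snd a)
  let s1 : FMK.phi a a K ≅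
      DCoh.Lpull p₁ ⋙ (DCoh.Lpull Δ ⋙ DCoh.LTensorCx (OCx X 0) ⋙ DCoh.Rpush Δ) ⋙ DCoh.Rpush p₂ :=
    Functor.isoWhiskerLeft (DCoh.Lpull p₁) (Functor.isoWhiskerRight (e1 ≪≫ e2) (DCoh.Rpush p₂))
  let s2 : DCoh.Lpull p₁ ⋙ (DCoh.Lpull Δ ⋙ DCoh.LTensorCx (OCx X 0) ⋙ DCoh.Rpush Δ) ⋙
        DCoh.Rpush p₂ ≅
      𝟭 (DCoh.D X) ⋙ DCoh.LTensorCx (OCx X 0) ⋙ DCoh.Rpush Δ ⋙ DCoh.Rpush p₂ :=
    Functor.isoWhiskerRight e3 (DCoh.LTensorCx (OCx X 0) ⋙ DCoh.Rpush Δ ⋙ DCoh.Rpush p₂)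
  let s3 : 𝟭 (DCoh.D X) ⋙ DCoh.LTensorCx (OCx X 0) ⋙ DCoh.Rpush Δ ⋙ DCoh.Rpush p₂ ≅
      𝟭 (DCoh.D X) ⋙ DCoh.LTensorCx (OCx X 0) ⋙ 𝟭 (DCoh.D X) :=
    Functor.isoWhiskerLeft (𝟭 (DCoh.D X) ⋙ DCoh.LTensorCx (OCx X 0)) e4
  let s4 : 𝟭 (DCoh.D X) ⋙ DCoh.LTensorCx (OCx X 0) ⋙ 𝟭 (DCoh.D X) ≅ 𝟭 (DCoh.D X) :=
    Functor.leftUnitor _ ≪≫ Functor.rightUnitor _ ≪≫ ltensorOIso X
  exact ⟨s1 ≪≫ s2 ≪≫ s3 ≪≫ s4⟩

end Main

end Groth.Agent.Lib.Helper5.FMId
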